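import Groth.Agent.Curves.K251.LocTriv
import Groth.Agent.CohDim.K685.SetCI
import Groth.Agent.ProjDeg.K657.ConstMap
import Groth.Agent.Sga3.H826.SmSection
import Groth.Agent.EGA41.K99.NilpPow
import Groth.Agent.CohqB.ProjBC

/-!
# Smooth families over an Artinian local ring whose closed fibre is a projective line
-/

set_option autoImplicit false
universe u
open CategoryTheory CategoryTheory.Limits AlgebraicGeometry

namespace K251.ArtP1

open Groth.Agent IsLocalRing

variable {C : Type u} [CommRing C] [IsLocalRing C] [IsArtinianRing C]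

theorem henselianLocalRing (C : Type u) [CommRing C] [IsArtinianRing C] [IsLocalRing C] :
    HenselianLocalRing C := by
  obtain ⟨n, hn⟩ := IsArtinianRing.isNilpotent_jacobson_bot (R := C)
  rw [IsLocalRing.jacobson_eq_maximalIdeal ⊥ bot_ne_top] at hn
  have : IsAdicComplete (maximalIdeal C) C := K99.NilpPow.isAdicComplete_of_pow_eq_bot (maximalIdeal C) n hn C
  exact Sga3.H826.SmSection.henselianLocalRing_of_isAdicComplete C

/-- A field-valued point of the spectrum of an Artinian local ring factors through the closed point. -/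
theorem exists_factor {K : Type u} [Field K] (x : Spec (CommRingCat.of K) ⟶ Spec (CommRingCat.of C)) :
    ∃ ψ : ResidueField C →+* K, x = Spec.map (CommRingCat.ofHom ψ) ≫ Spec.map (CommRingCat.ofHom (residue C)) := by
  obtain ⟨φ, rfl⟩ : ∃ φ : C →+* K, Spec.map (CommRingCat.ofHom φ) = x := ⟨(Spec.preimage x).hom, Spec.map_preimage x⟩
  have hp : (RingHom.ker φ).IsPrime := RingHom.ker_isPrime φ
  have hm : RingHom.ker φ = maximalIdeal C := IsLocalRing.eq_maximalIdeal inferInstance
  refine ⟨Ideal.Quotient.lift (maximalIdeal C) φ fun a ha => ?_, ?_⟩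
  · rwa [← hm, RingHom.mem_ker] at ha
  · rw [← Spec.map_comp, ← CommRingCat.ofHom_comp]
    rfl

section

variable [IsAlgClosed (ResidueField C)] {X : Scheme.{u}} (f : X ⟶ Spec (CommRingCat.of C)) [Smooth f] [IsProper f]
  (hint : IsIntegral (pullback f (Spec.map (CommRingCat.ofHom (IsLocalRing.residue C)))))
  (hdim : topologicalKrullDim ↥(pullback f (Spec.map (CommRingCat.ofHom (IsLocalRing.residue C)))) = 1)
  (hg : @Curv2.genus (IsLocalRing.ResidueField C) _ (pullback f (Spec.map (CommRingCat.ofHom (IsLocalRing.residue C))))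
        ⟨pullback.snd f (Spec.map (CommRingCat.ofHom (IsLocalRing.residue C)))⟩ = 0)

include hint hdim hg

omit [IsArtinianRing C] [Smooth f] in
theorem exists_sq : ∃ j : CohB1.ProjSpace 1 (ResidueField C) ⟶ X,
    IsPullback j (CohB1.ProjSpace.toSpec 1 (ResidueField C)) f (Spec.map (CommRingCat.ofHom (residue C))) := by
  obtain ⟨e, he⟩ := LocTriv.exists_iso_of_alg (ResidueField C)
    (pullback.snd f (Spec.map (CommRingCat.ofHom (IsLocalRing.residue C)))) hint hdim hg
  refine ⟨e.inv ≫ pullback.fst _ _, ?_⟩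
  exact IsPullback.of_iso (IsPullback.of_hasPullback f (Spec.map (CommRingCat.ofHom (residue C)))) e (Iso.refl _)
    (Iso.refl _) (Iso.refl _) (by simp) (by simp [he]) (by simp) (by simp)

/-- The geometric fibres are projective lines. -/
theorem exists_iso_fibre (K : Type u) [Field K] (x : Spec (CommRingCat.of K) ⟶ Spec (CommRingCat.of C)) :
    ∃ e : pullback f x ≅ CohB1.ProjSpace 1 K, e.hom ≫ CohB1.ProjSpace.toSpec 1 K = pullback.snd f x := by
  obtain ⟨ψ, rfl⟩ := exists_factor x
  obtain ⟨j, hj⟩ := exists_sq f hint hdim hg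
  have h := (CohqB.ProjBC.isPullback_pmap ψ 1).flip.paste_vert hj.flip
  exact ⟨(IsPullback.of_hasPullback f _).isoIsPullback _ _ h.flip, IsPullback.isoIsPullback_hom_snd _ _ _ _⟩

/-- The family has a section. -/
theorem exists_section : ∃ σ : Spec (CommRingCat.of C) ⟶ X, σ ≫ f = 𝟙 _ := by
  obtain ⟨j, hj⟩ := exists_sq f hint hdim hg
  obtain ⟨z, hz⟩ := K657.ConstMap.exists_point (k := ResidueField C) 1
  have := henselianLocalRing C
  obtain ⟨σ, hσ, -⟩ := Sga3.H826.SmSection.exists_lift f (z ≫ j)
    (by rw [Category.assoc, hj.w, reassoc_of% hz])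
  exact ⟨σ, hσ⟩

end

end K251.ArtP1
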