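import Groth.Agent.FinCond.K653.LocalIso
import Groth.Agent.FDesc.K108.GenFib

/-!
# An isomorphism of generic fibres gives an isomorphism of nonempty open subschemes over the base
-/

set_option autoImplicit false
universe u
open CategoryTheory CategoryTheory.Limits AlgebraicGeometry

namespace K251.GenSpread

variable {X Y B : Scheme.{u}} [IsIntegral B] (f : X ⟶ B) (g : Y ⟶ B)

theorem isIso_stalkMap (z : f.fiber (genericPoint B)) : IsIso ((f.fiberι (genericPoint B)).stalkMap z) := by
  rw [ConcreteCategory.isIso_iff_bijective]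
  exact K108.GenFib.stalkMap_fiberι_bijective f z

/-- An isomorphism of generic fibres spreads out to an isomorphism over the base of open subschemes around a given
point of the generic fibre. -/
theorem exists_open_iso [LocallyOfFinitePresentation f] [LocallyOfFinitePresentation g]
    (E : f.fiber (genericPoint B) ⟶ g.fiber (genericPoint B)) [IsIso E]
    (hE : E ≫ g.fiberToSpecResidueField _ = f.fiberToSpecResidueField _) (z : f.fiber (genericPoint B)) :
    ∃ (U : X.Opens) (W : Y.Opens) (e : (U : Scheme.{u}) ≅ (W : Scheme.{u})),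
      f.fiberι (genericPoint B) z ∈ U ∧ e.hom ≫ W.ι ≫ g = U.ι ≫ f := by
  have hfc : ∀ {Z : Scheme.{u}} (h : Z ⟶ B), h.fiberι (genericPoint B) ≫ h =
      h.fiberToSpecResidueField (genericPoint B) ≫ B.fromSpecResidueField (genericPoint B) :=
    fun h => pullback.condition
  have h0 : E ≫ g.fiberι (genericPoint B) ≫ g = f.fiberι (genericPoint B) ≫ f := by
    rw [hfc, ← Category.assoc, hE, ← hfc]
  have hX := isIso_stalkMap f z
  have hY := isIso_stalkMap g (E z)
  obtain ⟨φ, hφi, hφ⟩ : ∃ (φ : Y.presheaf.stalk (g.fiberι (genericPoint B) (E z)) ⟶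
      X.presheaf.stalk (f.fiberι (genericPoint B) z)), IsIso φ ∧ φ ≫ (f.fiberι (genericPoint B)).stalkMap z =
        (g.fiberι (genericPoint B)).stalkMap (E z) ≫ E.stalkMap z :=
    ⟨(g.fiberι (genericPoint B)).stalkMap (E z) ≫ E.stalkMap z ≫ inv ((f.fiberι (genericPoint B)).stalkMap z),
      inferInstance, by simp⟩
  have e : f (f.fiberι (genericPoint B) z) = g (g.fiberι (genericPoint B) (E z)) := by
    have := congr($h0 z)
    simpa using this.symm
  obtain ⟨U, hxU, V, r, hr, h1, h2⟩ := K653.LocalIso.exists_isIso_spread_out f g e φ (by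
    apply Spec.map_injective
    rw [← cancel_mono (B.fromSpecStalk _), ← cancel_epi (Spec.map ((f.fiberι (genericPoint B)).stalkMap z)),
      Spec.map_comp _ φ, Spec.map_comp (B.presheaf.stalkSpecializes _), Category.assoc, Category.assoc,
      Scheme.SpecMap_stalkMap_fromSpecStalk,
      Scheme.SpecMap_stalkSpecializes_fromSpecStalk, Scheme.SpecMap_stalkMap_fromSpecStalk,
      Scheme.SpecMap_stalkMap_fromSpecStalk_assoc, ← Category.assoc (Spec.map _) (Spec.map φ), ← Spec.map_comp,
      hφ, Spec.map_comp, Category.assoc,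
      Scheme.SpecMap_stalkMap_fromSpecStalk_assoc, Scheme.SpecMap_stalkMap_fromSpecStalk_assoc, h0])
  exact ⟨U, V, asIso r, hxU, h2⟩

end K251.GenSpread
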