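import Groth.Agent.Curves.K251.GenFib
import Groth.Agent.Curves.K251.GenSpread
import Groth.Agent.Models.K381.ProjGen
import Groth.Agent.Lefpen.H726.ProjGeo
import Groth.Agent.VarietyB.ProjSpaceProper

/-!
# A fibration of genus zero with a section is birational to a product with the projective line
-/

set_option autoImplicit false
universe u
open CategoryTheory CategoryTheory.Limits AlgebraicGeometry

namespace K251.BirP1

open Groth.Agent

/-- The fibre of `B ×_k P¹_k → B` at a point is the projective line over the residue field. -/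
theorem exists_sq (k : Type u) [Field k] {B : Scheme.{u}} (q : B ⟶ Spec (CommRingCat.of k)) (b : B) :
    ∃ a : CohB1.ProjSpace 1 (B.residueField b) ⟶ pullback q (CohB1.ProjSpace.toSpec 1 k),
      IsPullback a (CohB1.ProjSpace.toSpec 1 (B.residueField b))
        (pullback.fst q (CohB1.ProjSpace.toSpec 1 k)) (B.fromSpecResidueField b) := by
  obtain ⟨a, ha⟩ := K381.ProjGen.exists_isPullback 1 B (B.residueField b) (B.fromSpecResidueField b)
  have h1 := Lefpen.H726.ProjGeo.isPullback_prk q 1
  have h2 : IsPullback (pullback.snd q (CohB1.ProjSpace.toSpec 1 k)) (pullback.fst q (CohB1.ProjSpace.toSpec 1 k))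
    (CohB1.ProjSpace.toSpec 1 k) q := (IsPullback.of_hasPullback _ _).flip
  let e := h1.isoIsPullback _ _ h2
  have he : e.hom ≫ pullback.fst q (CohB1.ProjSpace.toSpec 1 k) = CohB1.ProjSpaceOver.toBase 1 B :=
    h1.isoIsPullback_hom_snd _ _ h2
  refine ⟨a ≫ e.hom, ?_⟩
  exact IsPullback.of_iso ha (Iso.refl _) e (Iso.refl _) (Iso.refl _) (by simp) (by simp) (by simp [he]) (by simp)

/-- A fibration of genus zero of a surface over a curve with a section is birational over the curve to the product
with the projective line. -/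
theorem main (k : Type u) [Field k] {X B : Scheme.{u}} [IsIntegral X] [IsIntegral B]
    (q : B ⟶ Spec (CommRingCat.of k)) [LocallyOfFiniteType q] (π : X ⟶ B) [IsProper π]
    [LocallyOfFinitePresentation π]
    (hB : topologicalKrullDim B = 1) (hX : topologicalKrullDim X = 2) (hsurj : Function.Surjective π.base)
    [GeometricallyIntegral (π.fiberToSpecResidueField (genericPoint B))]
    (hgen : @Curv2.genus (B.residueField (genericPoint B)) _ (π.fiber (genericPoint B))
      ⟨π.fiberToSpecResidueField (genericPoint B)⟩ = 0) (σ : B ⟶ X) (hσ : σ ≫ π = 𝟙 B) :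
    ∃ (U : X.Opens) (W : (pullback q (CohB1.ProjSpace.toSpec 1 k)).Opens)
      (e : (U : Scheme.{u}) ≅ (W : Scheme.{u})),
      (U : Set X).Nonempty ∧ e.hom ≫ W.ι ≫ pullback.fst q (CohB1.ProjSpace.toSpec 1 k) = U.ι ≫ π := by
  let η := genericPoint B
  let s : Spec (B.residueField η) ⟶ π.fiber η :=
    pullback.lift (B.fromSpecResidueField η ≫ σ) (𝟙 _) (by rw [Category.assoc, hσ]; simp)
  have hs : s ≫ π.fiberToSpecResidueField η = 𝟙 _ := pullback.lift_snd _ _ _
  obtain ⟨e1, he1⟩ := GenFib.exists_iso_of_section q π hB hX hsurj hgen s hs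
  obtain ⟨a, ha⟩ := exists_sq k q η
  let p := pullback.fst q (CohB1.ProjSpace.toSpec 1 k)
  have hp : IsPullback (p.fiberι η) (p.fiberToSpecResidueField η) p (B.fromSpecResidueField η) :=
    IsPullback.of_hasPullback _ _
  let e2 := ha.isoIsPullback _ _ hp
  have he2 : e2.hom ≫ p.fiberToSpecResidueField η = CohB1.ProjSpace.toSpec 1 (B.residueField η) :=
    ha.isoIsPullback_hom_snd _ _ hp
  obtain ⟨U, W, e, hz, he⟩ := GenSpread.exists_open_iso π p (e1.hom ≫ e2.hom)
    (by rw [Category.assoc, he2, he1]) (s (IsLocalRing.closedPoint (B.residueField η)))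
  exact ⟨U, W, e, ⟨_, hz⟩, he⟩

end K251.BirP1
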