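import Groth.Agent.Curves.K251.P1Dual
import Groth.Agent.MorSch.K921.PullDual
import Groth.Agent.AbSch.K450.OmegaFLF
import Groth.Agent.PerfC.PullRestrict
import Groth.Prelude.Def_MorSch

/-!
# Free rational curves and the vanishing of global sections of twists of `f^*Ω`

* `isFree_iff : IsFree pX f ↔ H⁰(P¹, f^*Ω(-1)) = 0`;
* `isVeryFree_iff : IsVeryFree pX f ↔ H⁰(P¹, f^*Ω) = 0`.
-/

set_option autoImplicit false
universe u
open CategoryTheory CategoryTheory.Limits AlgebraicGeometry MonoidalCategory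

namespace K251.FreeH0

open scoped Groth.Agent.Dcoh.MonCat
open Groth.Agent Groth.Agent.PerfB.TwistDer K251.P1Dual

variable {k : Type u} [Field k]

/-- A dual of `f^*F` isomorphic to `f^*` of the dual sheaf. -/
theorem exists_dual {X Y : Scheme.{u}} (f : Y ⟶ X) {F : X.Modules} (hF : FlatMod.IsFinLocFree F) :
    ∃ V : Y.Modules, Nonempty (ExactPairing ((Scheme.Modules.pullback f).obj F) V) ∧
      Nonempty ((Scheme.Modules.pullback f).obj (RefHull.dual F) ≅ V) := by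
  obtain ⟨V, ⟨h⟩⟩ := Dcoh.DualFLF.exists_exactPairing hF
  let _ := Dcoh.MonPull.monPull f
  exact ⟨(Scheme.Modules.pullback f).obj V, ⟨Dcoh.MonDual.mapExactPairing (Scheme.Modules.pullback f) F V⟩,
    ⟨(Scheme.Modules.pullback f).mapIso (K921.PullDual.dualIso F V)⟩⟩

theorem isGloballyGenerated_of_iso {X : Scheme.{u}} {L L' : X.Modules} (e : L ≅ L')
    (h : Curv2.IsGloballyGenerated L) : Curv2.IsGloballyGenerated L' := by
  obtain ⟨ι, q, hq⟩ := h
  exact ⟨ι, q ≫ e.hom, epi_comp _ _⟩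

/-- `G(-1)` has no sections iff the dual of `G` is globally generated. -/
theorem subsingleton_iff {G G' : (CohB1.ProjSpace 1 k).Modules} [ExactPairing G G'] (hG : FlatMod.IsFinLocFree G) :
    Subsingleton (Coh.HH (CohB1.ProjSpace 1 k) (CohB1.tensorMod G (O k (-1))) 0) ↔ Curv2.IsGloballyGenerated G' :=
  ⟨isGloballyGenerated hG, subsingleton_H0 hG⟩

/-- `G(1 - r)(-1)` has no sections iff `G'(-(1 - r))...`: the twisted version. -/
theorem subsingleton_iff_twist {G G' : (CohB1.ProjSpace 1 k).Modules} [ExactPairing G G']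
    (hG : FlatMod.IsFinLocFree G) (a b : ℤ) (hab : a = b - 1) :
    Subsingleton (Coh.HH (CohB1.ProjSpace 1 k) (CohB1.tensorMod G (O k a)) 0) ↔
      Curv2.IsGloballyGenerated (CohB1.tensorMod G' (O k (-b))) := by
  obtain ⟨p⟩ := nonempty_pairO (k := k) b (-b) (by ring)
  let _ : ExactPairing (CohB1.tensorMod G (O k b)) (CohB1.tensorMod (O k (-b)) G') :=
    (ExactPairing.tensor : ExactPairing (G ⊗ O k b) (O k (-b) ⊗ G'))
  have h1 := subsingleton_iff (G := CohB1.tensorMod G (O k b)) (G' := CohB1.tensorMod (O k (-b)) G')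
    (Sga67.LocBasis.isFinLocFree_tensorMod hG (isFinLocFree_O b))
  let e : CohB1.tensorMod (CohB1.tensorMod G (O k b)) (O k (-1)) ≅ CohB1.tensorMod G (O k a) :=
    let e0 : (O k b ⊗ O k (-1) : (CohB1.ProjSpace 1 k).Modules) ≅ O k a := twMul 1 k b (-1) a (by omega)
    (α_ G (O k b) (O k (-1)) ≪≫ whiskerLeftIso G e0 : (G ⊗ O k b) ⊗ O k (-1) ≅ G ⊗ O k a)
  let e' : CohB1.tensorMod (O k (-b)) G' ≅ CohB1.tensorMod G' (O k (-b)) :=
    (β_ (O k (-b)) G' : O k (-b) ⊗ G' ≅ G' ⊗ O k (-b))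
  constructor
  · intro h
    exact isGloballyGenerated_of_iso e' (h1.1 (subsingleton_HH_iso e.symm 0 h))
  · intro h
    exact subsingleton_HH_iso e 0 (h1.2 (isGloballyGenerated_of_iso e'.symm h))

variable {X : Scheme.{u}} (pX : X ⟶ Spec (CommRingCat.of k)) [Smooth pX] [QuasiSeparated pX]
  (f : CohB1.ProjSpace 1 k ⟶ X)

/-- `f` is free iff `H⁰(P¹, f^*Ω(-1)) = 0`. -/
theorem isFree_iff : MorSch.IsFree pX f ↔ Subsingleton (Coh.HH (CohB1.ProjSpace 1 k)
    (CohB1.tensorMod ((Scheme.Modules.pullback f).obj (Omega.sheaf pX)) (Twist.twistProjSpace 1 k (-1))) 0) := by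
  have hΩ := K450.OmegaFLF.isFinLocFree_omega pX
  obtain ⟨V, ⟨h⟩, ⟨e⟩⟩ := exists_dual f hΩ
  have h1 := subsingleton_iff (G := (Scheme.Modules.pullback f).obj (Omega.sheaf pX)) (G' := V)
    (PerfC.PullRestrict.isFinLocFree_pullback f hΩ)
  exact ⟨fun H => h1.2 (isGloballyGenerated_of_iso e H), fun H => isGloballyGenerated_of_iso e.symm (h1.1 H)⟩

/-- `f` is very free iff `H⁰(P¹, f^*Ω) = 0`. -/
theorem isVeryFree_iff : MorSch.IsVeryFree pX f ↔ Subsingleton (Coh.HH (CohB1.ProjSpace 1 k)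
    ((Scheme.Modules.pullback f).obj (Omega.sheaf pX)) 0) := by
  have hΩ := K450.OmegaFLF.isFinLocFree_omega pX
  obtain ⟨V, ⟨h⟩, ⟨e⟩⟩ := exists_dual f hΩ
  have h1 := subsingleton_iff_twist (G := (Scheme.Modules.pullback f).obj (Omega.sheaf pX)) (G' := V)
    (PerfC.PullRestrict.isFinLocFree_pullback f hΩ) 0 1 (by norm_num)
  let e' : CohB1.tensorMod ((Scheme.Modules.pullback f).obj (RefHull.dual (Omega.sheaf pX))) (O k (-1)) ≅
      CohB1.tensorMod V (O k (-1)) :=
    (whiskerRightIso e (O k (-1)) : (Scheme.Modules.pullback f).obj (RefHull.dual (Omega.sheaf pX)) ⊗ O k (-1) ≅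
      V ⊗ O k (-1))
  let e0 : CohB1.tensorMod ((Scheme.Modules.pullback f).obj (Omega.sheaf pX)) (O k 0) ≅
      (Scheme.Modules.pullback f).obj (Omega.sheaf pX) :=
    (whiskerLeftIso _ (twZero 1 k).symm ≪≫ ρ_ _ :
      (Scheme.Modules.pullback f).obj (Omega.sheaf pX) ⊗ O k 0 ≅ (Scheme.Modules.pullback f).obj (Omega.sheaf pX))
  constructor
  · intro H
    exact subsingleton_HH_iso e0 0 (h1.2 (isGloballyGenerated_of_iso e' H))
  · intro H
    exact isGloballyGenerated_of_iso e'.symm (h1.1 (subsingleton_HH_iso e0.symm 0 H))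

end K251.FreeH0
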