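import Groth.Agent.Curves.K251.GenusZeroField
import Groth.Agent.EGA4.K110.DimFib
import Groth.Agent.CycB.SetupLft
import Groth.Agent.CycA.SetupField

/-!
# The generic fibre of a fibration of genus zero over a curve
-/

set_option autoImplicit false
universe u
open CategoryTheory CategoryTheory.Limits AlgebraicGeometry

namespace K251.GenFib

open Groth.Agent

/-- Dimension of the generic fibre of a surjective morphism of irreducible schemes locally of finite type over a
field. -/
theorem dim_fiber {k : Type u} [Field k] {X B : Scheme.{u}} (q : B ⟶ Spec (CommRingCat.of k))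
    [LocallyOfFiniteType q] (π : X ⟶ B) [LocallyOfFiniteType π] [IrreducibleSpace X] [IrreducibleSpace B]
    (hsurj : Function.Surjective π.base) {n m : ℕ} (hB : topologicalKrullDim B = n)
    (hX : topologicalKrullDim X = (n + m : ℕ)) : topologicalKrullDim (π.fiber (genericPoint B)) = m := by
  have hdom : IsDominant π := ⟨hsurj.denseRange⟩
  have hloc : IsLocallyNoetherian B := LocallyOfFiniteType.isLocallyNoetherian q
  have hcat : ∀ y : B, CAlg.IsUniversallyCatenary (B.presheaf.stalk y) := fun y =>
    CycB.SetupLft.isUniversallyCatenary_stalk q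
      (fun y => CycA.SetupField.isUniversallyCatenary_stalk_Spec k y) y
  have h1 := K110.DimFib.dim_eq π hcat
  have h2 : (⨆ y ∈ Set.range π.base, ringKrullDim (B.presheaf.stalk y)) = topologicalKrullDim B := by
    rw [hsurj.range_eq, K110.DimFib.topologicalKrullDim_eq B]
    simp only [Set.mem_univ, iSup_pos]
  obtain ⟨e, he⟩ := K110.DimFib.exists_dim_fibre π
  rw [he] at h1 ⊢
  have h3 : (((n + m : ℕ) : ℕ∞) : WithBot ℕ∞) = ((n + e : ℕ) : ℕ∞) := by
    have h4 := (hX.symm.trans h1).trans (congrArg (· + ((e : ℕ) : WithBot ℕ∞)) (h2.trans hB))
    simpa using h4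
  have h5 : n + m = n + e := by exact_mod_cast h3
  have h6 : e = m := by omega
  rw [h6]

variable {k : Type u} [Field k] {X B : Scheme.{u}} [IsIntegral X] [IsIntegral B]
  (q : B ⟶ Spec (CommRingCat.of k)) [LocallyOfFiniteType q] (π : X ⟶ B) [IsProper π]
  (hB : topologicalKrullDim B = 1) (hX : topologicalKrullDim X = 2) (hsurj : Function.Surjective π.base)

include q hB hX hsurj in
omit [IsIntegral X] [IsIntegral B] [IsProper π] in
theorem dim_fiber_one [LocallyOfFiniteType π] [IrreducibleSpace X] [IrreducibleSpace B] :
    topologicalKrullDim (π.fiber (genericPoint B)) = 1 :=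
  dim_fiber q π hsurj (n := 1) (m := 1) hB (by rw [hX]; rfl)

omit [IsIntegral X] [IsIntegral B] in
theorem isProper_fiber (b : B) : IsProper (π.fiberToSpecResidueField b) :=
  inferInstanceAs (IsProper (pullback.snd π (B.fromSpecResidueField b)))


section

variable [GeometricallyIntegral (π.fiberToSpecResidueField (genericPoint B))]
  (hgen : @Curv2.genus (B.residueField (genericPoint B)) _ (π.fiber (genericPoint B))
    ⟨π.fiberToSpecResidueField (genericPoint B)⟩ = 0)

include q hB hX hsurj hgen

/-- The generic fibre of a fibration of genus zero of a surface over a curve is a smooth proper curve. -/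
theorem isSmoothProperCurve :
    Curve.IsSmoothProperCurve (B.residueField (genericPoint B)) (π.fiber (genericPoint B))
      (π.fiberToSpecResidueField (genericPoint B)) :=
  @GenusZeroField.isSmoothProperCurve (B.residueField (genericPoint B)) _ _
    (π.fiberToSpecResidueField (genericPoint B)) (isProper_fiber π _) ‹_›
    (dim_fiber_one q π hB hX hsurj) hgen

/-- If it has a rational point it is a projective line. -/
theorem exists_iso_of_section (s : Spec (B.residueField (genericPoint B)) ⟶ π.fiber (genericPoint B))
    (hs : s ≫ π.fiberToSpecResidueField (genericPoint B) = 𝟙 _) :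
    ∃ e : π.fiber (genericPoint B) ≅ CohB1.ProjSpace 1 (B.residueField (genericPoint B)),
      e.hom ≫ CohB1.ProjSpace.toSpec 1 (B.residueField (genericPoint B)) =
        π.fiberToSpecResidueField (genericPoint B) :=
  @GenusZeroField.exists_iso_of_section (B.residueField (genericPoint B)) _ _
    (π.fiberToSpecResidueField (genericPoint B)) (isProper_fiber π _) ‹_›
    (dim_fiber_one q π hB hX hsurj) hgen s hs

end

omit [IsIntegral X] in
/-- `H⁰(X_η, O) = κ(η)`. -/
theorem finrank_H0 [GeometricallyIntegral (π.fiberToSpecResidueField (genericPoint B))] :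
    letI : (π.fiber (genericPoint B)).Over (Spec (B.residueField (genericPoint B))) :=
        ⟨π.fiberToSpecResidueField (genericPoint B)⟩
    Module.finrank (B.residueField (genericPoint B))
      (Coh.HH (π.fiber (genericPoint B)) (Coh.structureModule (π.fiber (genericPoint B))) 0) = 1 := by
  let _ : (π.fiber (genericPoint B)).Over (Spec (CommRingCat.of (B.residueField (genericPoint B)))) :=
        ⟨π.fiberToSpecResidueField (genericPoint B)⟩
  have : IsProper ((π.fiber (genericPoint B)) ↘ (Spec (CommRingCat.of (B.residueField (genericPoint B))))) :=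
    isProper_fiber π _
  have : GeometricallyIntegral ((π.fiber (genericPoint B)) ↘
      (Spec (CommRingCat.of (B.residueField (genericPoint B))))) :=
    ‹GeometricallyIntegral (π.fiberToSpecResidueField (genericPoint B))›
  exact GenusZeroField.finrank_H0 (B.residueField (genericPoint B)) (π.fiber (genericPoint B))

end K251.GenFib
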