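import Groth.Agent.S0002
import Groth.Agent.S11934
import Groth.Agent.CurvesB.VABaseChange
import Groth.Agent.CurvesB.UnitCoh
import Groth.Agent.CurvSt.K896.TailBridge
import Groth.Agent.Models.H59.ConicEnd
import Mathlib.AlgebraicGeometry.Morphisms.LocalFlatDescent

/-!
# Geometrically integral proper curves of arithmetic genus zero over a field

For `f : C ⟶ Spec k` proper, geometrically integral, of dimension one with `h¹(O_C) = 0`: `H⁰(C, O_C) = k`, `C` is
smooth over `k`, the base change to an algebraic closure is a projective line, and `C ≅ P¹_k` as soon as `C` has a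
`k`-rational point.
-/

set_option autoImplicit false
universe u
open CategoryTheory CategoryTheory.Limits AlgebraicGeometry

namespace K251.GenusZeroField

open Groth.Agent

section Basic

variable {k : Type u} [Field k] {C : Scheme.{u}} (f : C ⟶ Spec (CommRingCat.of k)) [IsProper f]
  [GeometricallyIntegral f]

/-- Global functions on a proper geometrically integral scheme are the constants. -/
theorem isIso_appTop : IsIso f.appTop := by
  have : LocallyOfFinitePresentation f := CurvesB.NodeSch2.locallyOfFinitePresentation_of_field _
  exact Groth.Agent.S11934.isIso_app f ⊤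

omit [IsProper f] in
include f in
/-- A geometrically integral scheme is integral. -/
theorem isIntegral : IsIntegral C := by
  have h : IsPullback (𝟙 C) f f (𝟙 _) := IsPullback.of_horiz_isIso ⟨by simp⟩
  have h2 : IsPullback (𝟙 C) f f (Spec.map (CommRingCat.ofHom (algebraMap k k))) := by
    have e : Spec.map (CommRingCat.ofHom (algebraMap k k)) = 𝟙 _ := Spec.map_id _
    rw [e]
    exact h
  exact GeometricallyIntegral.geometrically_isIntegral (f := f) _ _ _ h2

end Basic

section Over

variable (k : Type u) [Field k] (C : Scheme.{u}) [C.Over (Spec (CommRingCat.of k))]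
  [IsProper (C ↘ Spec (CommRingCat.of k))]

/-- The first cohomology group of the structure sheaf of a curve of genus zero is zero. -/
theorem subsingleton_H1 (hg : Curv2.genus k C = 0) : Subsingleton (Coh.HH C (Coh.structureModule C) 1) := by
  have : Module.Finite k (Coh.HH C (Coh.structureModule C) 1) :=
    Groth.Agent.S0002.result k C _ (CurvesB.UnitCoh.isCoh_structureModule C) 1
  exact Module.finrank_zero_iff.1 hg

variable [GeometricallyIntegral (C ↘ Spec (CommRingCat.of k))]

/-- `h⁰(O) = 1`. -/
theorem finrank_H0 : Module.finrank k (Coh.HH C (Coh.structureModule C) 0) = 1 :=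
  Models.H59.ConicEnd.finrank_H0 k C (isIso_appTop (C ↘ Spec (CommRingCat.of k)))

/-- The base change to an algebraically closed algebraic extension is a projective line. -/
theorem exists_iso_bc (hdim : topologicalKrullDim C = 1) (hg : Curv2.genus k C = 0)
    {K : Type u} [Field K] [Algebra k K] [IsAlgClosed K] [Algebra.IsAlgebraic k K]
    {X' : Scheme.{u}} [X'.Over (Spec (CommRingCat.of K))] {p : X' ⟶ C}
    (hpb : IsPullback p (X' ↘ Spec (CommRingCat.of K)) (C ↘ Spec (CommRingCat.of k))
      (Spec.map (CommRingCat.ofHom (algebraMap k K)))) :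
    ∃ e : X' ≅ CohB1.ProjSpace 1 K, e.hom ≫ CohB1.ProjSpace.toSpec 1 K = X' ↘ Spec (CommRingCat.of K) := by
  have := CurvesB.VABaseChange.isProper hpb
  have := CurvesB.VABaseChange.isIntegral hpb
  exact K896.TailBridge.exists_iso_P1 K X' ((CurvesB.VABaseChange.topologicalKrullDim_eq hpb).trans hdim)
    (subsingleton_H1 K X' ((CurvesB.VABaseChange.genus_eq hpb).trans hg))

/-- Geometrically integral proper curves of genus zero are smooth. -/
theorem smooth (hdim : topologicalKrullDim C = 1) (hg : Curv2.genus k C = 0) :
    Smooth (C ↘ Spec (CommRingCat.of k)) := by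
  let K := AlgebraicClosure k
  let _ := CurvesB.VABaseChange.overBc k C K
  have H := CurvesB.VABaseChange.isPullback_bc k C K
  obtain ⟨e, he⟩ := exists_iso_bc k C hdim hg H
  have h1 : Smooth (CohB1.ProjSpace.toSpec 1 K) := inferInstance
  have h2 : Smooth ((Curv2.bc k C K) ↘ Spec (CommRingCat.of K)) := by
    rw [← he]
    infer_instance
  have h3 : (@Surjective ⊓ @Flat ⊓ @QuasiCompact : MorphismProperty Scheme.{u})
      (Spec.map (CommRingCat.ofHom (algebraMap k K))) := ⟨⟨inferInstance, inferInstance⟩, inferInstance⟩
  exact MorphismProperty.of_isPullback_of_descendsAlong H.flip h3 h2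

end Over

section Main

variable {k : Type u} [Field k] {C : Scheme.{u}} (f : C ⟶ Spec (CommRingCat.of k)) [IsProper f]
  [GeometricallyIntegral f]

/-- A geometrically integral proper curve of genus zero is a smooth proper curve. -/
theorem isSmoothProperCurve (hdim : topologicalKrullDim C = 1) (hg : @Curv2.genus k _ C ⟨f⟩ = 0) :
    Curve.IsSmoothProperCurve k C f := by
  let _ : C.Over (Spec (CommRingCat.of k)) := ⟨f⟩
  have : IsProper (C ↘ Spec (CommRingCat.of k)) := ‹IsProper f›
  have : GeometricallyIntegral (C ↘ Spec (CommRingCat.of k)) := ‹GeometricallyIntegral f›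
  exact ⟨inferInstance, smooth k C hdim hg, isIntegral f, hdim⟩

/-- A geometrically integral proper curve of genus zero with a rational point is a projective line. -/
theorem exists_iso_of_section (hdim : topologicalKrullDim C = 1) (hg : @Curv2.genus k _ C ⟨f⟩ = 0)
    (s : Spec (CommRingCat.of k) ⟶ C) (hs : s ≫ f = 𝟙 _) :
    ∃ e : C ≅ CohB1.ProjSpace 1 k, e.hom ≫ CohB1.ProjSpace.toSpec 1 k = f :=
  Models.H59.ConicEnd.exists_iso_of_section f (isSmoothProperCurve f hdim hg) (isIso_appTop f) hg s hs

end Main

end K251.GenusZeroField
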