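import Groth.Agent.Krr.H484.PBCharts
import Groth.Agent.An.K824.RelDimGeo
import Groth.Agent.CohDim.K685.SetCI
import Groth.Agent.Curves.K251.GenusZeroField

/-!
# Families of curves of genus zero: fibres and local triviality of projective bundles
-/

set_option autoImplicit false
universe u
open CategoryTheory CategoryTheory.Limits AlgebraicGeometry

namespace K251.LocTriv

open Groth.Agent

/-- Integral proper curves of genus zero over an algebraically closed field are projective lines. -/
theorem exists_iso_of_alg (K : Type u) [Field K] [IsAlgClosed K] {C : Scheme.{u}} (f : C ⟶ Spec (CommRingCat.of K))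
    [IsProper f] (hi : IsIntegral C) (hdim : topologicalKrullDim C = 1) (hg : @Curv2.genus K _ C ⟨f⟩ = 0) :
    ∃ e : C ≅ CohB1.ProjSpace 1 K, e.hom ≫ CohB1.ProjSpace.toSpec 1 K = f := by
  let _ : C.Over (Spec (CommRingCat.of K)) := ⟨f⟩
  have : IsProper (C ↘ Spec (CommRingCat.of K)) := ‹IsProper f›
  exact K896.TailBridge.exists_iso_P1 K C hdim (GenusZeroField.subsingleton_H1 K C hg)

/-- A projective bundle of a locally free module of rank two is locally on the base a projective line. -/
theorem exists_chart {X S : Scheme.{u}} (f : X ⟶ S) {E : S.Modules} (hE : FlatMod.IsFinLocFreeOfRank 2 E)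
    {O1 : X.Modules} {q : (Scheme.Modules.pullback f).obj E ⟶ O1} (h : KRR.IsProjBundle f E O1 q) (s : S) :
    ∃ (R : Type u) (_ : CommRing R) (i : Spec (CommRingCat.of R) ⟶ S), IsOpenImmersion i ∧ s ∈ Set.range i.base ∧
      ∃ e : pullback f i ≅ CohB1.ProjSpace 1 R, e.hom ≫ CohB1.ProjSpace.toSpec 1 R = pullback.snd f i := by
  obtain ⟨W, hW, hs, ⟨τ⟩⟩ := Krr.H484.PBCharts.exists_triv hE s
  obtain ⟨j, hj, -⟩ := Krr.H484.PBCharts.exists_chart (A := Γ(S, W)) h hW.fromSpec τ
  refine ⟨Γ(S, W), inferInstance, hW.fromSpec, inferInstance, ?_, (IsPullback.of_hasPullback f hW.fromSpec).isoIsPullback _ _ hj,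
    IsPullback.isoIsPullback_hom_snd _ _ _ _⟩
  rw [hW.range_fromSpec]
  exact hs

/-- A smooth morphism all of whose geometric fibres are projective lines has relative dimension one. -/
theorem smoothOfRelativeDimension {X S : Scheme.{u}} (f : X ⟶ S) [Smooth f]
    (hP : ∀ (K : Type u) [Field K] [IsAlgClosed K] (b : Spec (CommRingCat.of K) ⟶ S),
      ∃ e : pullback f b ≅ CohB1.ProjSpace 1 K, e.hom ≫ CohB1.ProjSpace.toSpec 1 K = pullback.snd f b) :
    SmoothOfRelativeDimension 1 f := by
  refine K824.RelDimGeo.smoothOfRelativeDimension_of_geometric f 1 fun Ω _ _ b => ?_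
  obtain ⟨e, -⟩ := hP Ω b
  have h1 : IsIntegral (CohB1.ProjSpace 1 Ω) := inferInstance
  have h0 : Nonempty ↥(pullback f b) := by
    obtain ⟨x⟩ : Nonempty (CohB1.ProjSpace 1 Ω) := inferInstance
    exact ⟨e.inv x⟩
  have h2 : IsIntegral (pullback f b) := isIntegral_of_isOpenImmersion e.hom
  refine ⟨inferInstance, ?_⟩
  have h3 : IsHomeomorph e.hom.base := (TopCat.homeoOfIso (Scheme.forgetToTop.mapIso e)).isHomeomorph
  rw [IsHomeomorph.topologicalKrullDim_eq _ h3]
  exact K685.SetCI.dim_projSpace Ω 1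

/-- Over the spectrum of a local ring a locally free module is free. -/
theorem nonempty_triv (C : Type u) [CommRing C] [IsLocalRing C] {n : ℕ} {E : (Spec (CommRingCat.of C)).Modules}
    (hE : FlatMod.IsFinLocFreeOfRank n E) :
    Nonempty ((Scheme.Modules.pullback (𝟙 (Spec (CommRingCat.of C)))).obj E ≅
      FlatMod.freeMod (Spec (CommRingCat.of C)) n) := by
  obtain ⟨W, hW, hs, ⟨τ⟩⟩ := Krr.H484.PBCharts.exists_triv hE (IsLocalRing.closedPoint C)
  have hW' : W = ⊤ := by
    refine eq_top_iff.2 fun x _ => ?_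
    exact (IsLocalRing.specializes_closedPoint (R := C) x).mem_open W.isOpen hs
  have hr : Set.range (𝟙 (Spec (CommRingCat.of C)) : _ ⟶ _) ⊆ Set.range hW.fromSpec := by
    rw [hW.range_fromSpec, hW']
    exact Set.subset_univ _
  let g : Spec (CommRingCat.of C) ⟶ Spec Γ(Spec (CommRingCat.of C), W) :=
    IsOpenImmersion.lift hW.fromSpec (𝟙 _) hr
  have hg : g ≫ hW.fromSpec = 𝟙 _ := IsOpenImmersion.lift_fac _ _ _
  exact ⟨(Scheme.Modules.pullbackCongr hg.symm).app E ≪≫ (Scheme.Modules.pullbackComp g hW.fromSpec).symm.app E ≪≫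
    (Scheme.Modules.pullback g).mapIso τ ≪≫ Groth.Agent.PerfB.FlatPull.pullbackFreeMod g n⟩

/-- A projective bundle of a locally free module of rank two over the spectrum of a local ring is the projective
line. -/
theorem exists_iso_of_isLocalRing {C : Type u} [CommRing C] [IsLocalRing C] {X : Scheme.{u}}
    (f : X ⟶ Spec (CommRingCat.of C)) {E : (Spec (CommRingCat.of C)).Modules} (hE : FlatMod.IsFinLocFreeOfRank 2 E)
    {O1 : X.Modules} {q : (Scheme.Modules.pullback f).obj E ⟶ O1} (h : KRR.IsProjBundle f E O1 q) :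
    ∃ e : X ≅ CohB1.ProjSpace 1 C, e.hom ≫ CohB1.ProjSpace.toSpec 1 C = f := by
  obtain ⟨τ⟩ := nonempty_triv C hE
  obtain ⟨j, hj, -⟩ := Krr.H484.PBCharts.exists_chart h (𝟙 _) τ
  have hj' : IsIso j := hj.isIso_fst_of_isIso
  refine ⟨(asIso j).symm, ?_⟩
  rw [Iso.symm_hom, asIso_inv, IsIso.inv_comp_eq, hj.w, Category.comp_id]

end K251.LocTriv
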