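import Groth.Agent.S1647
import Groth.Agent.S2926
import Groth.Agent.S5683
import Groth.Agent.VBCurve.K708.HomH0
import Groth.Agent.Coherent.K45.HomLift
import Groth.Agent.Coherent.K54.RelCoh
import Groth.Agent.PerfB.TwistDer
import Groth.Agent.IntSh.K879.DualCmp
import Groth.Agent.CurvesA.HHMap
import Groth.Agent.VarietyB.ProjSpaceProper
import Groth.Agent.Sga67.SerreVB

/-!
# Finite locally free modules on the projective line and their duals

`G` finite locally free on `P¹_k` with dual `G'` (`ExactPairing G G'`):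
* `subsingleton_H1`: `H⁰(G(-1)) = 0` implies `H¹(G'(-1)) = 0`;
* `isGloballyGenerated`: then `G'` is globally generated;
* `subsingleton_H0`: the converse.
-/

set_option autoImplicit false
universe u
open CategoryTheory CategoryTheory.Limits AlgebraicGeometry MonoidalCategory

namespace K251.P1Dual

open scoped Groth.Agent.Dcoh.MonCat
open Groth.Agent Groth.Agent.PerfB.TwistDer

variable {k : Type u} [Field k]

/-- `O(d)` on the projective line. -/
noncomputable abbrev O (k : Type u) [Field k] (d : ℤ) : (CohB1.ProjSpace 1 k).Modules := Twist.twistProjSpace 1 k d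

/-- The twisting sheaves are dual to one another. -/
theorem nonempty_pairO (a b : ℤ) (h : a + b = 0) : Nonempty (ExactPairing (O k a) (O k b)) := by
  have h1 : PicF.IsInvertible (O k a) := isInvertible_tw 1 k a
  obtain ⟨P', ⟨p⟩, ⟨e⟩⟩ := K54.RelCoh.exists_pairing h1 (twMul 1 k a b 0 h ≪≫ (twZero 1 k).symm)
  exact ⟨exactPairingCongrRight e.symm⟩

theorem subsingleton_HH_iso {X : Scheme.{u}} {M N : X.Modules} (e : M ≅ N) (i : ℕ) (h : Subsingleton (Coh.HH X M i)) :
    Subsingleton (Coh.HH X N i) :=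
  (CurvesA.HHMap.equiv e i).symm.toEquiv.subsingleton

/-- The twisting sheaves are finite locally free. -/
theorem isFinLocFree_O (d : ℤ) : FlatMod.IsFinLocFree (O k d) :=
  Groth.Agent.S5683.isFinLocFree_of_isInvertible (isInvertible_tw 1 k d)

/-- `O(-2) ⊗ (O(1) ⊗ G') ≅ G' ⊗ O(-1)`. -/
noncomputable def isoAux (G' : (CohB1.ProjSpace 1 k).Modules) (a b c : ℤ) (h : a + b = c) :
    CohB1.tensorMod (O k a) (CohB1.tensorMod (O k b) G') ≅ CohB1.tensorMod G' (O k c) :=
  let e1 : O k a ⊗ (O k b ⊗ G') ≅ (O k a ⊗ O k b) ⊗ G' := (α_ _ _ _).symm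
  let e0 : (O k a ⊗ O k b : (CohB1.ProjSpace 1 k).Modules) ≅ O k c := twMul 1 k a b c h
  let e2 : (O k a ⊗ O k b) ⊗ G' ≅ O k c ⊗ G' := whiskerRightIso e0 G'
  let e3 : O k c ⊗ G' ≅ G' ⊗ O k c := β_ _ _
  (e1 ≪≫ e2 ≪≫ e3 : O k a ⊗ (O k b ⊗ G') ≅ G' ⊗ O k c)

/-- `H⁰(G(-1)) = 0` implies `H¹(G'(-1)) = 0`. -/
theorem subsingleton_H1 {G G' : (CohB1.ProjSpace 1 k).Modules} [ExactPairing G G'] (hG : FlatMod.IsFinLocFree G)
    (h : Subsingleton (Coh.HH (CohB1.ProjSpace 1 k) (CohB1.tensorMod G (O k (-1))) 0)) :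
    Subsingleton (Coh.HH (CohB1.ProjSpace 1 k) (CohB1.tensorMod G' (O k (-1))) 1) := by
  obtain ⟨p⟩ := nonempty_pairO (k := k) (-1) 1 (by norm_num)
  have hfl : FlatMod.IsFinLocFree (CohB1.tensorMod G (O k (-1))) :=
    Sga67.LocBasis.isFinLocFree_tensorMod hG (isFinLocFree_O (-1))
  have hinst : DCoh.HasSheafHom (CohB1.tensorMod G (O k (-1))) := Sga2.PnHomAdj.hasSheafHom _
  obtain ⟨e⟩ := Groth.Agent.S2926.result k 1 (CohB1.tensorMod G (O k (-1))) hfl 0 (by norm_num)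
  let _ : ExactPairing (CohB1.tensorMod G (O k (-1))) (CohB1.tensorMod (O k 1) G') :=
    (ExactPairing.tensor : ExactPairing (G ⊗ O k (-1)) (O k 1 ⊗ G'))
  obtain ⟨e2⟩ := K45.HomLift.nonempty_sheafHom_iso (CohB1.tensorMod G (O k (-1))) (CohB1.tensorMod (O k 1) G')
    (O k (-((1 : ℕ) + 1)))
  have h1 : Subsingleton (Module.Dual k (Coh.HH (CohB1.ProjSpace 1 k) (CohB1.tensorMod G (O k (-1))) 0)) :=
    inferInstance
  have h2 := e.symm.toEquiv.subsingleton
  exact subsingleton_HH_iso (e2 ≪≫ isoAux G' (-((1 : ℕ) + 1)) 1 (-1) (by norm_num)) 1 h2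

/-- `H⁰(G(-1)) = 0` implies that the dual of `G` is globally generated. -/
theorem isGloballyGenerated {G G' : (CohB1.ProjSpace 1 k).Modules} [ExactPairing G G'] (hG : FlatMod.IsFinLocFree G)
    (h : Subsingleton (Coh.HH (CohB1.ProjSpace 1 k) (CohB1.tensorMod G (O k (-1))) 0)) :
    Curv2.IsGloballyGenerated G' := by
  have hG' : FlatMod.IsFinLocFree G' := Dcoh.DualFLF.isFinLocFree_dual hG G'
  have hcoh : Coh.IsCoh G' := PerfA.CohSerre.isCoh_of_isFinLocFree hG'
  have hreg : Curv2.IsMRegular k 1 G' 0 := by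
    intro i h1 h2
    obtain rfl : i = 1 := le_antisymm h2 h1
    have := subsingleton_H1 (G' := G') hG h
    simpa using this
  obtain ⟨ι, q, hq⟩ := Groth.Agent.S1647.result k 1 G' hcoh 0 hreg
  let e : CohB1.tensorMod G' (O k 0) ≅ G' :=
    (whiskerLeftIso G' (twZero 1 k).symm ≪≫ ρ_ G' : G' ⊗ O k 0 ≅ G')
  exact ⟨ι, q ≫ e.hom, epi_comp _ _⟩

/-- If the dual of `G` is globally generated then `H⁰(G(-1)) = 0`. -/
theorem subsingleton_H0 {G G' : (CohB1.ProjSpace 1 k).Modules} [ExactPairing G G'] (hG : FlatMod.IsFinLocFree G)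
    (h : Curv2.IsGloballyGenerated G') :
    Subsingleton (Coh.HH (CohB1.ProjSpace 1 k) (CohB1.tensorMod G (O k (-1))) 0) := by
  have hG' : FlatMod.IsFinLocFree G' := Dcoh.DualFLF.isFinLocFree_dual hG G'
  have hcoh : Coh.IsCoh G' := PerfA.CohSerre.isCoh_of_isFinLocFree hG'
  have hcs : CompactSpace (CohB1.ProjSpace 1 k) := by
    have := VarietyB.ProjSpaceProper.isProper_toSpec 1 k
    exact (quasiCompact_iff_compactSpace (f := CohB1.ProjSpace.toSpec 1 k)).mp inferInstance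
  obtain ⟨N, q, hq⟩ := Sga67.SerreVB.exists_epi_freeMod hcoh h
  let _ : ExactPairing G' G := K708.Dual.swapPairing G G'
  have h0 : ∀ φ : G' ⟶ O k (-1), φ = 0 := by
    intro φ
    have h1 : Subsingleton (Coh.HH (CohB1.ProjSpace 1 k) (O k (-1)) 0) :=
      Sga2.PnSumCoh.subsingleton_tw 1 k (-1) (by norm_num) 0 (by norm_num)
    have h2 := (K708.HomH0.forall_unit_hom_eq_zero_iff (O k (-1))).2 h1
    rw [← cancel_epi q, comp_zero]
    refine Sigma.hom_ext _ _ fun i => ?_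
    rw [comp_zero]
    exact h2 _
  have h1 := (K708.HomH0.forall_hom_eq_zero_iff G' G (O k (-1))).1 h0
  exact subsingleton_HH_iso (β_ (O k (-1)) G : O k (-1) ⊗ G ≅ G ⊗ O k (-1)) 0 h1

end K251.P1Dual
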